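import Cfsg.Agent.Lib.Sporadic.FiTransfer.TripleCentre.Orbits

/-!
The centralizer of a product of three commuting transpositions, type M(22).
-/

set_option autoImplicit false
set_option maxRecDepth 100000

open Cfsg.Spor

namespace CfsgLib.Sporadic.FiTransfer.TripleCentre

open CfsgLib.Sporadic.CosetCert
open CfsgLib.Sporadic.CosetCert.FiP
open CfsgLib.Sporadic.CosetCert.FiP.OutFi22
open CfsgLib.Sporadic.CosetCert.FiData (table)
open CfsgLib.Sporadic.FiTransfer.PLocal

attribute [local irreducible] PTab.img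

/-- The product of the three chosen transpositions. -/
noncomputable def xEl : Fi22 := dp pt * dp (pnt 6) * dp (pnt 40)

theorem img_xEl : Img xEl xK := by
  have h := ((img_dp pt).mul (img_dp (pnt 6))).mul (img_dp (pnt 40))
  rw [show ((pt : Fin table.N) : ℕ) = 0 from rfl, pnt_val (by norm_num), pnt_val (by norm_num)] at h
  exact h

theorem conj_three (g : Fi22) {p q r : Fin table.N} (hp : hom g pt = p) (hq : hom g (pnt 6) = q)
    (hr : hom g (pnt 40) = r) : g * xEl * g⁻¹ = dp p * dp q * dp r := by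
  rw [← hp, ← hq, ← hr, ← conj_dp, ← conj_dp, ← conj_dp, xEl]
  group

theorem fix_xEl_iff (u : Fin table.N) : hom xEl u = u ↔ xK u = u := by
  rw [Fin.ext_iff, img_xEl]

theorem invK_map {c : Fi22} (hc : Commute c xEl) (q : Fin table.N) :
    invK (hom c q : Fin table.N) = invK q := by
  have hle : ∀ (d : Fi22), Commute d xEl → ∀ u : Fin table.N, invK u ≤ invK (hom d u : Fin table.N) := by
    intro d hd u
    rw [invK, invK, countK_eq, countK_eq]
    refine Finset.card_le_card_of_injOn
      (fun v => ((hom d (pnt v) : Fin table.N) : ℕ)) ?_ ?_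
    · intro v hv
      rw [Finset.mem_coe, Finset.mem_filter, Finset.mem_range] at hv
      obtain ⟨hv, hh⟩ := hv
      rw [Bool.and_eq_true, Nat.beq_eq] at hh
      refine Finset.mem_coe.2 (Finset.mem_filter.2 ⟨Finset.mem_range.2 (Fin.isLt _), ?_⟩)
      rw [Bool.and_eq_true, Nat.beq_eq]
      refine ⟨(fix_xEl_iff _).1 ?_, ?_⟩
      · rw [← Equiv.Perm.mul_apply, ← map_mul, ← hd.eq, map_mul, Equiv.Perm.mul_apply]
        congr 1
        rw [fix_xEl_iff, pnt_val hv]
        exact hh.1
      · have := rel_map d u (pnt v)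
        rw [pnt_val hv, hh.2] at this
        exact this
    · intro a ha b hb e
      rw [Finset.mem_coe, Finset.mem_filter, Finset.mem_range] at ha hb
      have := congrArg Fin.val ((hom d).injective (Fin.ext e))
      rwa [pnt_val ha.1, pnt_val hb.1] at this
  refine le_antisymm ?_ (hle c hc q)
  have := hle c⁻¹ hc.inv_left (hom c q)
  rwa [hom_inv_apply] at this

theorem mem_six {g : Fi22} (hg : Commute g xEl) {b : Fin table.N} (hb : (b : ℕ) ∈ six) :
    ((hom g b : Fin table.N) : ℕ) ∈ six := by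
  have key : ∀ u : Fin table.N, (u : ℕ) ∈ six ↔ hom xEl u = u ∧ invK u = 54 := by
    intro u
    have h := of_allBelow six_ok u u.2
    rw [beq_iff_eq] at h
    rw [← List.contains_iff_mem, ← h, Bool.and_eq_true, Nat.beq_eq, Nat.beq_eq, fix_xEl_iff]
  obtain ⟨h1, h2⟩ := (key b).1 hb
  refine (key _).2 ⟨?_, by rw [invK_map hg, h2]⟩
  rw [← Equiv.Perm.mul_apply, ← map_mul, ← hg.eq, map_mul, Equiv.Perm.mul_apply, h1]

theorem six_base : 0 ∈ six ∧ 6 ∈ six ∧ 40 ∈ six := by decide

theorem six_lt : ∀ x ∈ six, x < 3510 := by decide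

theorem trips_iff (p q r : ℕ) : (p, q, r) ∈ trips ↔ p ∈ six ∧ q ∈ six ∧ r ∈ six ∧
    (!Nat.beq p q && !Nat.beq p r && !Nat.beq q r && rel p q && rel p r && rel q r &&
      agreeK (fun v => taps [r, q, p] v) xK) = true := by
  simp only [trips, List.mem_flatMap, List.mem_filterMap, Bool.cond_eq_ite,
    Option.ite_none_right_eq_some, Option.some.injEq, Prod.mk.injEq]
  constructor
  · rintro ⟨a, ha, b, hb, c, hc, h, rfl, rfl, rfl⟩
    exact ⟨ha, hb, hc, h⟩
  · rintro ⟨ha, hb, hc, h⟩
    exact ⟨p, ha, q, hb, r, hc, h, rfl, rfl, rfl⟩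

theorem commute_of_fix_three {c : Fi22} (h : c ∈ fixer [40, 6, 0]) : Commute c xEl := by
  have hx : ∀ f ∈ [40, 6, 0], Commute c (dp (pnt f)) := fun f hf => comm_of_fix (h f hf)
  rw [xEl, ← pnt_zero]
  exact ((hx 0 (by simp)).mul_right (hx 6 (by simp))).mul_right (hx 40 (by simp))

theorem dpProd_three (r q p : ℕ) :
    dpProd [r, q, p] = dp (pnt p) * dp (pnt q) * dp (pnt r) := by
  simp [dpProd]

theorem agree_of_eq {g : Fi22} {f k : ℕ → ℕ} (hf : Img g f) (hk : Img g k) :
    agreeK f k = true := by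
  rw [agreeK, List.all_eq_true]
  intro v hv
  have hlt : ∀ x ∈ genPts, x < 3510 := by decide
  rw [← pnt_val (hlt v hv), ← hf, ← hk, Nat.beq_eq]

theorem fix_inv_mul_iff (a b : Fi22) (u : Fin table.N) :
    hom (a⁻¹ * b) u = u ↔ hom a u = hom b u := by
  rw [map_mul, Equiv.Perm.mul_apply, map_inv, Equiv.Perm.inv_def, Equiv.symm_apply_eq]
  exact eq_comm

/-- The centralizer of the product of the chosen three transpositions. -/
theorem card_centralizer_xEl :
    Nat.card (Subgroup.centralizer ({xEl} : Set Fi22)) = 1769472 := by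
  classical
  have mC : ∀ c, c ∈ Subgroup.centralizer ({xEl} : Set Fi22) ↔ Commute c xEl := by
    intro c
    rw [Subgroup.mem_centralizer_iff]
    simp only [Set.mem_singleton_iff, forall_eq]
    exact eq_comm
  let f : Fi22 → ℕ × ℕ × ℕ := fun c => ((hom c pt : Fin table.N), (hom c (pnt 6) : Fin table.N),
    (hom c (pnt 40) : Fin table.N))
  rw [card_eq_fibres (Subgroup.centralizer ({xEl} : Set Fi22)) (fixer [40, 6, 0])
    (fun c hc => (mC c).2 (commute_of_fix_three hc)) f trips.toFinset ?_ ?_ ?_,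
    card_fixer_three, List.toFinset_card_of_nodup trips_nodup, trips_len]
  · intro a _ b _
    simp only [f, Prod.mk.injEq, ← Fin.ext_iff, ← fix_inv_mul_iff]
    constructor
    · rintro ⟨h0, h6, h40⟩ v hv
      simp only [List.mem_cons, List.not_mem_nil, or_false] at hv
      rcases hv with rfl | rfl | rfl
      exacts [h40, h6, by rw [pnt_zero]; exact h0]
    · intro h
      exact ⟨pnt_zero ▸ h 0 (by simp), h 6 (by simp), h 40 (by simp)⟩
  · intro a ha
    rw [mC] at ha
    rw [List.mem_toFinset, trips_iff]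
    obtain ⟨s0, s6, s40⟩ := six_base
    obtain ⟨n1, n2, n3⟩ := base_near
    refine ⟨mem_six ha (b := pt) s0, mem_six ha (b := pnt 6) (by rwa [pnt_val (by norm_num)]),
      mem_six ha (b := pnt 40) (by rwa [pnt_val (by norm_num)]), ?_⟩
    have bne : ∀ {u v : Fin table.N}, Near u v → (!Nat.beq u v) = true ∧ rel u v = true := by
      intro u v h
      refine ⟨?_, (rel_iff u v).2 h.2⟩
      rw [Bool.not_eq_true', ← Bool.not_eq_true, Nat.beq_eq, ← Fin.ext_iff]
      exact h.1
    simp only [Bool.and_eq_true]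
    refine ⟨⟨⟨⟨⟨⟨(bne (near_map a n1)).1, (bne (near_map a n2)).1⟩, (bne (near_map a n3)).1⟩,
      (bne (near_map a n1)).2⟩, (bne (near_map a n2)).2⟩, (bne (near_map a n3)).2⟩, ?_⟩
    refine agree_of_eq (g := xEl) ?_ img_xEl
    have h := img_dpProd [((hom a (pnt 40) : Fin table.N) : ℕ), ((hom a (pnt 6) : Fin table.N) : ℕ),
      ((hom a pt : Fin table.N) : ℕ)] (by
        intro q hq
        simp only [List.mem_cons, List.not_mem_nil, or_false] at hq
        rcases hq with rfl | rfl | rfl <;> exact Fin.isLt _)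
    rw [dpProd_three, pnt_coe, pnt_coe, pnt_coe, ← conj_three a rfl rfl rfl, ha.eq,
      mul_inv_cancel_right] at h
    exact h
  · rintro ⟨p, q, r⟩ hv
    rw [List.mem_toFinset, trips_iff] at hv
    obtain ⟨hp, hq, hr, h⟩ := hv
    simp only [Bool.and_eq_true] at h
    obtain ⟨⟨⟨⟨⟨⟨a1, a2⟩, a3⟩, b1⟩, b2⟩, b3⟩, hag⟩ := h
    have lp := six_lt p hp
    have lq := six_lt q hq
    have lr := six_lt r hr
    have near : ∀ {u v : ℕ}, u < 3510 → v < 3510 → (!Nat.beq u v) = true → rel u v = true →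
        Near (pnt u) (pnt v) := by
      intro u v hu hv h1 h2
      rw [← pnt_val hu, ← pnt_val hv] at h1 h2
      rw [Bool.not_eq_true', ← Bool.not_eq_true, Nat.beq_eq, ← Fin.ext_iff] at h1
      exact ⟨h1, (rel_iff _ _).1 h2⟩
    obtain ⟨g, g0, g6, g40⟩ := triple_trans (near lp lq a1 b1) (near lp lr a2 b2) (near lq lr a3 b3)
    have hl : ∀ u ∈ [r, q, p], u < 3510 := by
      intro u hu
      simp only [List.mem_cons, List.not_mem_nil, or_false] at hu
      rcases hu with rfl | rfl | rfl <;> assumption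
    have heq : g * xEl * g⁻¹ = xEl := by
      rw [conj_three g g0 g6 g40, ← dpProd_three]
      exact eq_of_agree (img_dpProd _ hl) img_xEl hag
    refine ⟨g, (mC g).2 ?_, ?_⟩
    · exact mul_inv_eq_iff_eq_mul.1 heq
    · show (((hom g pt : Fin table.N) : ℕ), ((hom g (pnt 6) : Fin table.N) : ℕ),
        ((hom g (pnt 40) : Fin table.N) : ℕ)) = (p, q, r)
      rw [g0, g6, g40, pnt_val lp, pnt_val lq, pnt_val lr]

/-- In a group of type M(22) the centralizer of a product of three distinct pairwise commuting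
transpositions has order `2 ^ 16 * 3 ^ 3`. -/
theorem triple_centralizer {G : Type*} [Group G] {D : Set G} (h : ModelIso G D) {d₁ d₂ d₃ : G}
    (h₁ : d₁ ∈ D) (h₂ : d₂ ∈ D) (h₃ : d₃ ∈ D) (h12 : d₁ ≠ d₂) (h13 : d₁ ≠ d₃) (h23 : d₂ ≠ d₃)
    (c12 : Commute d₁ d₂) (c13 : Commute d₁ d₃) (c23 : Commute d₂ d₃) :
    Nat.card (Subgroup.centralizer ({d₁ * d₂ * d₃} : Set G)) = 2 ^ 16 * 3 ^ 3 := by
  obtain ⟨e, he⟩ := h
  have key : ∀ d ∈ D, ∃ p, dp p = e d := fun d hd => by
    have := (mem_iff_of_image e he).1 hd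
    rwa [classTr_eq] at this
  obtain ⟨p, hp⟩ := key _ h₁
  obtain ⟨q, hq⟩ := key _ h₂
  obtain ⟨r, hr⟩ := key _ h₃
  have near : ∀ {x y : G} {u v : Fin table.N}, dp u = e x → dp v = e y → x ≠ y → Commute x y →
      Near u v := by
    intro x y u v hu hv hne hc
    refine ⟨fun huv => hne (e.injective (by rw [← hu, ← hv, huv])), (commute_dp_iff _ _).1 ?_⟩
    rw [hu, hv]
    exact (commute_iff e).2 hc
  obtain ⟨g, g0, g6, g40⟩ := triple_trans (near hp hq h12 c12) (near hp hr h13 c13)
    (near hq hr h23 c23)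
  have hx : MulAut.conj g xEl = e (d₁ * d₂ * d₃) := by
    rw [MulAut.conj_apply, conj_three g g0 g6 g40, hp, hq, hr, map_mul, map_mul]
  rw [← card_map_equiv' e, map_centralizer_equiv, Set.image_singleton, ← hx,
    ← Set.image_singleton (f := MulAut.conj g), ← map_centralizer_equiv, card_map_equiv',
    card_centralizer_xEl]
  norm_num

end CfsgLib.Sporadic.FiTransfer.TripleCentre
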